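import Groth.Agent.H52.SquareGroupVar
import Groth.Agent.S1572
import Groth.Agent.S7520
import Groth.Agent.S7630
import Groth.Agent.S0353
import Groth.Agent.Lib.GrpQ.FrobQ
import Groth.Agent.H4.CartierSection
import Groth.Agent.Lib.Cyc.SmoothReg
import Groth.Agent.Lib.Regular.UFD
import Groth.Agent.H56.DenseAffine
import Groth.Agent.H2.Rigid.GeomIrred
import Groth.Agent.H1.Classical.Smooth
import Groth.Agent.Lib.Ample.Restrict
import Groth.Agent.Lib.Ample.Coprod
import Groth.Agent.Lib.Ample.RelAmple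
import Mathlib.AlgebraicGeometry.Morphisms.FlatMono

/-!
Group schemes of finite type over a field are quasi-projective.
-/

set_option autoImplicit false

universe u

open CategoryTheory CategoryTheory.Limits MonoidalCategory CartesianMonoidalCategory MonObj GrpObj AlgebraicGeometry
open TopologicalSpace

namespace Groth.Agent.Lib.GrpQProj89

open Groth.Agent.Lib Groth.Agent.Lib.Ample

noncomputable section

variable {k : Type u} [Field k]

/-- Regular points of a smooth scheme have factorial local rings. -/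
theorem ufd_stalk {X : Scheme.{u}} (q : X ⟶ Spec (CommRingCat.of k)) [Smooth q] (x : X) :
    IsDomain (X.presheaf.stalk x) ∧ UniqueFactorizationMonoid (X.presheaf.stalk x) := by
  haveI := Groth.Agent.Lib.Cyc.SmoothReg.isRegularLocalRing_stalk q x
  haveI := Groth.Agent.Lib.Regular.Quotient.isDomain (X.presheaf.stalk x)
  exact ⟨inferInstance, Groth.Agent.Lib.Regular.UFD.uniqueFactorizationMonoid _⟩

/-- An invertible module with a section whose locus is a given dense affine open. -/
theorem exists_section_dense {X : Scheme.{u}} (q : X ⟶ Spec (CommRingCat.of k)) [Smooth q] [QuasiCompact q]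
    [IsSeparated q] :
    ∃ (L : X.Modules) (s : Coh.structureModule X ⟶ L), PicF.IsInvertible L ∧
      IsAffineOpen (CohB1.genLocus L s) ∧ Dense (CohB1.genLocus L s : Set X) := by
  haveI : IsLocallyNoetherian X := LocallyOfFiniteType.isLocallyNoetherian q
  haveI : CompactSpace X := QuasiCompact.compactSpace_of_compactSpace q
  haveI : IsNoetherian X := ⟨⟩
  haveI : X.IsSeparated := ⟨by
    rw [← terminal.comp_from q]
    infer_instance⟩
  obtain ⟨U, hU, hd⟩ := H56.DenseAffine.exists_dense_affine X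
  obtain ⟨D, hD, hsupp⟩ := Groth.Agent.S1572.result X U hU hd fun x _ => ufd_stalk q x
  obtain ⟨L, s, hL, hs⟩ := H4.CartierSection.exists_section D hD
  have e : CohB1.genLocus L s = U := by
    refine Opens.ext (Set.ext fun x => (hs x).trans ?_)
    rw [← SetLike.mem_coe, hsupp]
    exact not_not
  exact ⟨L, s, hL, by rw [e]; exact hU, by rw [e]; exact hd⟩

variable [IsAlgClosed k]

local notation "Pt" => 𝟙_ (Over (Spec (CommRingCat.of k)))

theorem exists_point {X : Over (Spec (CommRingCat.of k))} [LocallyOfFiniteType X.hom] {x : X.left}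
    (hx : IsClosed ({x} : Set X.left)) :
    ∃ p : Pt ⟶ X, p.left (IsLocalRing.closedPoint k) = x :=
  ⟨Over.homMk (pointOfClosedPoint X.hom x hx) (pointOfClosedPoint_comp X.hom x hx),
    pointOfClosedPoint_apply X.hom x hx _⟩

theorem toUnit_comp {T W : Over (Spec (CommRingCat.of k))} (z : Pt ⟶ T) (p : Pt ⟶ W) :
    z ≫ toUnit T ≫ p = p := by
  rw [← Category.assoc, toUnit_unique (z ≫ toUnit T) (𝟙 _), Category.id_comp]

/-- Left translation by a point. -/
def lmul {G : Over (Spec (CommRingCat.of k))} [GrpObj G] (f : Pt ⟶ G) : G ≅ G where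
  hom := (toUnit G ≫ f) * 𝟙 G
  inv := (toUnit G ≫ f⁻¹) * 𝟙 G
  hom_inv_id := by
    simp [MonObj.comp_mul, ← Category.assoc, toUnit_unique (((toUnit G ≫ f) * 𝟙 G) ≫ toUnit G) (toUnit G),
      GrpObj.comp_inv]
  inv_hom_id := by
    simp [MonObj.comp_mul, ← Category.assoc, toUnit_unique (((toUnit G ≫ f⁻¹) * 𝟙 G) ≫ toUnit G) (toUnit G),
      GrpObj.comp_inv]

section Smooth

variable {G : Over (Spec (CommRingCat.of k))} [GrpObj G] [Smooth G.hom] [QuasiCompact G.hom]
  {H : Over (Spec (CommRingCat.of k))} [GrpObj H] (i : H ⟶ G) [IsMonHom i] [IsOpenImmersion i.left]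
  [IsClosedImmersion i.left]

/-- Translate of the subgroup. -/
def tr (y : Pt ⟶ G) : H ⟶ G := i * (toUnit H ≫ y)

theorem tr_eq (y : Pt ⟶ G) : tr i y = i ≫ (GrpObj.mulRight y).hom := by
  simp [tr, Hom.mul_def, comp_lift, ← Category.assoc, toUnit_unique (i ≫ toUnit G) (toUnit H)]

theorem isOpenImmersion_tr (y : Pt ⟶ G) : IsOpenImmersion (tr i y).left := by
  have : IsIso (GrpObj.mulRight y).hom.left := ((Over.forget _).mapIso (GrpObj.mulRight y)).isIso_hom
  rw [tr_eq, Over.comp_left]; infer_instance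

theorem isClosedImmersion_tr (y : Pt ⟶ G) : IsClosedImmersion (tr i y).left := by
  have : IsIso (GrpObj.mulRight y).hom.left := ((Over.forget _).mapIso (GrpObj.mulRight y)).isIso_hom
  rw [tr_eq, Over.comp_left]; infer_instance

theorem isAffineHom_tr (y : Pt ⟶ G) : IsAffineHom (tr i y).left :=
  have := isClosedImmersion_tr i y
  inferInstance

theorem comp_tr {T : Over (Spec (CommRingCat.of k))} (z : T ⟶ H) (y : Pt ⟶ G) :
    z ≫ tr i y = (z ≫ i) * (toUnit T ≫ y) := by
  rw [tr, MonObj.comp_mul, ← Category.assoc z, toUnit_unique (z ≫ toUnit H) (toUnit T)]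

variable [GeometricallyIntegral H.hom]

/-- Ampleness on the translates of the subgroup. -/
theorem isAmple_pb_tr {L : G.left.Modules} (hL : PicF.IsInvertible L) (s : Coh.structureModule G.left ⟶ L)
    (haff : IsAffineOpen (CohB1.genLocus L s)) (hd : Dense (CohB1.genLocus L s : Set G.left)) (y : Pt ⟶ G) :
    CohB1.IsAmple ((Scheme.Modules.pullback (tr i y).left).obj L) := by
  have := GrpSch.isSeparated_of_field G
  haveI : IsSeparated H.hom := by rw [← Over.w i]; infer_instance
  haveI : Smooth H.hom := by rw [← Over.w i]; infer_instance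
  haveI : QuasiCompact H.hom := by rw [← Over.w i]; infer_instance
  haveI : LocallyOfFiniteType H.hom := inferInstance
  haveI : JacobsonSpace H.left := LocallyOfFiniteType.jacobsonSpace H.hom
  haveI : CompactSpace H.left := QuasiCompact.compactSpace_of_compactSpace H.hom
  haveI : IsIntegral H.left :=
    GeometricallyIntegral.geometrically_isIntegral (f := H.hom) (𝟙 _) (𝟙 H.left) H.hom
      (IsPullback.of_horiz_isIso ⟨by simp⟩)
  set U := CohB1.genLocus L s with hUdef
  let m : H ⊗ H ⟶ G := (fst H H ≫ i) * (snd H H ≫ tr i y)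
  let sl : (Pt ⟶ H) → (H ⟶ H ⊗ H) := fun a => lift (toUnit H ≫ a) (𝟙 H)
  let Lm := (Scheme.Modules.pullback m.left).obj L
  have hLm : PicF.IsInvertible Lm := PicLoc.isInvertible_pullback m.left hL
  let M := fun a : Pt ⟶ H => (Scheme.Modules.pullback (sl a).left).obj Lm
  have hM : ∀ a, PicF.IsInvertible (M a) := fun a => PicLoc.isInvertible_pullback _ hLm
  -- the composite maps
  have hsl : ∀ a, sl a ≫ m = (toUnit H ≫ a ≫ i) * tr i y := fun a => by
    simp only [sl, m, MonObj.comp_mul, lift_fst_assoc, lift_snd_assoc, Category.assoc, Category.id_comp]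
  have h1 : sl 1 ≫ m = tr i y := by
    rw [hsl]; simp
  have haffm : ∀ a, IsAffineHom ((sl a ≫ m).left) := fun a => by
    have e : sl a ≫ m = tr i y ≫ (lmul (a ≫ i)).hom := by
      rw [hsl]
      simp [lmul, MonObj.comp_mul, ← Category.assoc, toUnit_unique (tr i y ≫ toUnit G) (toUnit H)]
    have : IsIso (lmul (a ≫ i)).hom.left :=
      ((Over.forget _).mapIso (lmul (a ≫ i))).isIso_hom
    have := isAffineHom_tr i y
    rw [e, Over.comp_left]; infer_instance
  -- sections
  have hsec : ∀ a, ∃ t : Coh.structureModule H.left ⟶ M a, CohB1.genLocus (M a) t = (sl a ≫ m).left ⁻¹ᵁ U := by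
    intro a
    refine ⟨((PicLoc.pullbackStructureIso (sl a ≫ m).left).symm.hom ≫ (Scheme.Modules.pullback (sl a ≫ m).left).map s) ≫
      ((Scheme.Modules.pullbackCongr (show (sl a ≫ m).left = (sl a).left ≫ m.left by rw [Over.comp_left])).app L ≪≫
        ((Scheme.Modules.pullbackComp (sl a).left m.left).app L).symm).hom, ?_⟩
    rw [GenLocus.genLocus_comp_iso, GenLocus.genLocus_pullback _ hL]
  choose t ht using hsec
  let e1 : M 1 ≅ (Scheme.Modules.pullback (tr i y).left).obj L :=
    (Scheme.Modules.pullbackComp (sl 1).left m.left).app L ≪≫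
      (Scheme.Modules.pullbackCongr (by rw [← Over.comp_left, h1])).app L
  refine Pow.isAmple_of_iso e1 ?_
  refine Pow.isAmple_iff.2 ⟨hM 1, inferInstance, fun x => ?_⟩
  obtain ⟨x₀, hx₀, hx₀c⟩ :=
    (isClosed_closure (s := ({x} : Set H.left))).exists_closed_singleton ⟨x, subset_closure rfl⟩
  obtain ⟨z, hz⟩ := exists_point (X := H) hx₀c
  -- a good translation
  let y' : Pt ⟶ G := z ≫ tr i y
  let o1 : H ⟶ G := tr i y'
  let o2 : H ⟶ G := ι[H] ≫ tr i y'
  have : IsIso ι[H].left := by
    have : IsIso ι[H] := inferInstance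
    exact ((Over.forget _).map_isIso ι[H])
  have ho1 : IsOpenImmersion o1.left := isOpenImmersion_tr i y'
  have ho2 : IsOpenImmersion o2.left := by
    have := isOpenImmersion_tr i y'
    simp only [o2, Over.comp_left]; infer_instance
  have hmeet : ∀ (o : H ⟶ G), IsOpenImmersion o.left → (o.left ⁻¹ᵁ U : Set H.left).Nonempty := fun o ho => by
    haveI : Nonempty H.left := ⟨η[H].left (IsLocalRing.closedPoint k)⟩
    obtain ⟨w, ⟨v, rfl⟩, hwU⟩ := hd.inter_open_nonempty _ o.left.isOpenEmbedding.isOpen_range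
      (Set.range_nonempty o.left)
    exact ⟨v, hwU⟩
  obtain ⟨v, hv1, hv2⟩ := nonempty_preirreducible_inter (o1.left ⁻¹ᵁ U).isOpen (o2.left ⁻¹ᵁ U).isOpen
    (hmeet o1 ho1) (hmeet o2 ho2)
  obtain ⟨g0, ⟨hg0, hg0'⟩, hg0c⟩ := nonempty_inter_closedPoints (Z := (↑(o1.left ⁻¹ᵁ U) : Set H.left) ∩ ↑(o2.left ⁻¹ᵁ U))
    ⟨v, hv1, hv2⟩ (((o1.left ⁻¹ᵁ U).isOpen.inter (o2.left ⁻¹ᵁ U).isOpen).isLocallyClosed)
  obtain ⟨g, hg⟩ := exists_point (X := H) hg0c
  have hpt : ∀ (q : Pt ⟶ H) (f : H ⟶ G), f.left (q.left (IsLocalRing.closedPoint k)) =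
      (q ≫ f).left (IsLocalRing.closedPoint k) := fun q f => (Scheme.Hom.comp_apply _ _ _).symm
  have k1 : z ≫ sl g ≫ m = g ≫ o1 := by
    rw [hsl, MonObj.comp_mul, toUnit_comp, comp_tr, comp_tr, toUnit_unique (toUnit Pt) (𝟙 _),
      Category.id_comp]
    simp only [y', comp_tr, toUnit_unique (toUnit Pt) (𝟙 _), Category.id_comp, Category.assoc]
  have k2 : z ≫ sl g⁻¹ ≫ m = g ≫ o2 := by
    rw [hsl, MonObj.comp_mul, toUnit_comp, comp_tr]
    simp only [o2, y', comp_tr, MonObj.comp_mul, toUnit_comp, toUnit_unique (toUnit Pt) (𝟙 _), Category.id_comp,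
      Hom.inv_def, Category.assoc]
  have hmem : ∀ (a : Pt ⟶ H) (o : H ⟶ G), z ≫ sl a ≫ m = g ≫ o → g0 ∈ o.left ⁻¹ᵁ U →
      x₀ ∈ (sl a ≫ m).left ⁻¹ᵁ U := fun a o e hg' => by
    show (sl a ≫ m).left x₀ ∈ U
    rw [← hz, hpt, e, ← hpt, hg]
    exact hg'
  -- the square
  obtain ⟨esq⟩ := Groth.Agent.H52.SquareGroupVar.nonempty_iso (G := H) (W := H) Lm hLm
    (a1 := g) (a2 := 1) (a3 := 1) (a4 := g⁻¹) (by simp)
  let e2 : CohB1.tensorMod (M g) (M g⁻¹) ≅ CohB1.tensorPow (M 1) 2 :=
    esq ≪≫ TensorMod.Basic.tensorIso (Pow.powOne (M 1)).symm (Iso.refl _)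
  have hloc : CohB1.genLocus _ (SecTwist.tmulHom (t g) (t g⁻¹)) =
      (sl g ≫ m).left ⁻¹ᵁ U ⊓ (sl g⁻¹ ≫ m).left ⁻¹ᵁ U := by
    rw [GenLocus.genLocus_tmulHom (hM g) (hM g⁻¹), ht, ht]
  refine Pow.AffineAt.mk (n := 2) (by norm_num) e2 (SecTwist.tmulHom (t g) (t g⁻¹)) ?_ ?_
  · rw [hloc]
    exact (specializes_iff_mem_closure.2 hx₀).mem_open
      ((((sl g ≫ m).left ⁻¹ᵁ U) ⊓ ((sl g⁻¹ ≫ m).left ⁻¹ᵁ U)).isOpen) ⟨hmem g o1 k1 hg0, hmem g⁻¹ o2 k2 hg0'⟩
  · rw [hloc]
    have := haffm g
    have := haffm g⁻¹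
    have : H.left.IsSeparated := ⟨by rw [← terminal.comp_from H.hom]; infer_instance⟩
    exact (haff.preimage _).inf (haff.preimage _)

end Smooth

/-- The smooth case over an algebraically closed field. -/
theorem exists_isAmple_of_smooth (G : Over (Spec (CommRingCat.of k))) [GrpObj G] [Smooth G.hom]
    [QuasiCompact G.hom] : ∃ L : G.left.Modules, CohB1.IsAmple L := by
  have := GrpSch.isSeparated_of_field G
  haveI : JacobsonSpace G.left := LocallyOfFiniteType.jacobsonSpace G.hom
  haveI : CompactSpace G.left := QuasiCompact.compactSpace_of_compactSpace G.hom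
  obtain ⟨H, _, i, hi, hic, hif, hr, hirr, _⟩ := Groth.Agent.S7520.result k G
  haveI : IsLocallyNoetherian G.left := LocallyOfFiniteType.isLocallyNoetherian G.hom
  haveI : LocallyOfFinitePresentation i.left := inferInstance
  haveI : IsOpenImmersion i.left := IsOpenImmersion.of_flat_of_mono i.left
  haveI : Smooth H.hom := by rw [← Over.w i]; infer_instance
  haveI := H2.Rigid.GeomIrred.geometricallyConnected H.hom
  haveI : GeometricallyIntegral H.hom := H2.Rigid.GeomIrred.geometricallyIntegral_of_smooth H.hom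
  obtain ⟨L, s, hL, haff, hd⟩ := exists_section_dense G.hom
  refine ⟨L, ?_⟩
  let A : (Pt ⟶ G) → G.left.Opens := fun y =>
    have := isOpenImmersion_tr i y
    (tr i y).left.opensRange
  have hA : ∀ y, IsClopen (A y : Set G.left) := fun y => by
    have := isOpenImmersion_tr i y
    have := isClosedImmersion_tr i y
    exact ⟨(tr i y).left.isClosedEmbedding.isClosed_range, (A y).isOpen⟩
  have hcov : ∀ x : G.left, ∃ y, x ∈ A y := fun x => by
    obtain ⟨x₀, hx₀, hx₀c⟩ :=
      (isClosed_closure (s := ({x} : Set G.left))).exists_closed_singleton ⟨x, subset_closure rfl⟩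
    obtain ⟨y, hy⟩ := exists_point (X := G) hx₀c
    have hy0 : x₀ ∈ A y := by
      refine ⟨η[H].left (IsLocalRing.closedPoint k), ?_⟩
      rw [← hy, ← Scheme.Hom.comp_apply, ← Over.comp_left, comp_tr, IsMonHom.one_hom]
      congr 3
      simp [toUnit_unique (toUnit Pt) (𝟙 _), MonObj.one_eq_one]
    exact ⟨y, (specializes_iff_mem_closure.2 hx₀).mem_open (A y).isOpen hy0⟩
  obtain ⟨T, hT⟩ := isCompact_univ.elim_finite_subcover (fun y => (A y : Set G.left)) (fun y => (A y).isOpen)
    fun x _ => Set.mem_iUnion.2 (hcov x)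
  have hbasic : ∀ y, ∃ a : Γ(G.left, ⊤), G.left.basicOpen a = A y := fun y => by
    let B : G.left.Opens := ⟨(A y : Set G.left)ᶜ, (hA y).1.isOpen_compl⟩
    have htop : A y ⊔ B = ⊤ := Opens.ext (Set.union_compl_self _)
    obtain ⟨a, ha⟩ := Ample.Coprod.exists_basicOpen_eq (A := A y) (B := B)
      (disjoint_iff.2 (Opens.ext (Set.inter_compl_self _)))
    refine ⟨G.left.presheaf.map (eqToHom htop.symm).op a, ?_⟩
    rw [Scheme.basicOpen_res, ha]
    exact top_inf_eq _
  choose a ha using hbasic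
  refine Restrict.isAmple_of_cover (fun y : T => a y.1) (top_le_iff.1 fun x _ => ?_) fun y => ?_
  · obtain ⟨y, hy, hxy⟩ := Set.mem_iUnion₂.1 (hT (Set.mem_univ x))
    exact Opens.mem_iSup.2 ⟨⟨y, hy⟩, by rw [ha]; exact hxy⟩
  · have := isOpenImmersion_tr i y.1
    refine Restrict.isAmple_pb_of_range_eq (tr i y.1).left (G.left.basicOpen (a y.1)).ι ?_
      (isAmple_pb_tr i hL s haff hd y.1)
    rw [Scheme.Opens.range_ι, ha]
    rfl

/-- Over an algebraically closed field. -/
theorem exists_isAmple_of_isAlgClosed (G : Over (Spec (CommRingCat.of k))) [GrpObj G]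
    [LocallyOfFiniteType G.hom] [QuasiCompact G.hom] : ∃ L : G.left.Modules, CohB1.IsAmple L := by
  obtain ⟨p, hp⟩ := CharP.exists k
  rcases CharP.char_is_prime_or_zero k p with hpp | hp0
  · haveI := Fact.mk hpp
    obtain ⟨C, _, q, hq, hlft, hqc, hred, hqf, hqs, hinj⟩ := GrpQ.FrobQ.exists_reduced_quotient p G
    letI : GrpObj (Over.mk C.hom) := inferInstanceAs (GrpObj C)
    haveI : Smooth C.hom := by
      exact Groth.Agent.H1.Classical.Smooth.smooth_of_isReduced C.hom
    obtain ⟨L, hL⟩ := exists_isAmple_of_smooth C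
    haveI : IsLocallyNoetherian C.left := LocallyOfFiniteType.isLocallyNoetherian C.hom
    haveI : LocallyOfFiniteType (q.left ≫ C.hom) := by rw [Over.w]; infer_instance
    haveI : LocallyOfFiniteType q.left := locallyOfFiniteType_of_comp q.left C.hom
    haveI : LocallyOfFinitePresentation q.left := inferInstance
    haveI : QuasiCompact q.left := GrpQ.quasiCompact_left q
    refine ⟨_, Ample.Pullback.isAmple_pullback q.left (RelAmple.isQuasiAffine_of_isEmbedding q.left ?_) hL⟩
    exact (Topology.IsOpenEmbedding.of_continuous_injective_isOpenMap q.left.continuous hinj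
      q.left.isOpenMap).isEmbedding
  · subst hp0
    haveI := CharP.charP_to_charZero k
    haveI := Groth.Agent.S0353.result k G
    exact exists_isAmple_of_smooth G

omit [IsAlgClosed k] in
/-- Group schemes of finite type over a field are quasi-projective. -/
theorem exists_isAmple (G : Over (Spec (CommRingCat.of k))) [GrpObj G] [LocallyOfFiniteType G.hom]
    [QuasiCompact G.hom] : ∃ L : G.left.Modules, CohB1.IsAmple L := by
  let K := AlgebraicClosure k
  let b := GrpSch.extBase k K
  haveI : LocallyOfFiniteType (Red.bc b G).hom := GrpSch.bc_hom_of (P := @LocallyOfFiniteType) b G ‹_›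
  haveI : QuasiCompact (Red.bc b G).hom := GrpSch.bc_hom_of (P := @QuasiCompact) b G ‹_›
  obtain ⟨M, hM⟩ := exists_isAmple_of_isAlgClosed (Red.bc b G)
  letI : G.left.Over (Spec (CommRingCat.of k)) := ⟨G.hom⟩
  have hq : RelProj.IsQuasiProjective (Curv2.bcSnd k G.left K) :=
    ⟨‹LocallyOfFiniteType (Red.bc b G).hom›, ‹QuasiCompact (Red.bc b G).hom›, M,
      (RelAmple.isRelAmple_iff_isAmple (Red.bc b G).hom).2 hM⟩
  obtain ⟨-, -, L, hL⟩ := Groth.Agent.S7630.result k G.left K hq
  exact ⟨L, (RelAmple.isRelAmple_iff_isAmple G.hom).1 hL⟩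

end

end Groth.Agent.Lib.GrpQProj89
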